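import Cfsg.Agent.H763.JM.Two31
import Cfsg.Agent.H763.JM.L32Words
import Cfsg.Agent.J4.Beta

/-!
# The explicit group `X₀ = 2^10` of `J4` normalized by `f` (helper763)

`X₀ = A_b × A_g`, and `A_b`, `A_g` are the only subgroups of order 32 of `X₀` normalized by `f`.
-/

set_option autoImplicit false

namespace Cfsg.Agent.H763.JM

open Subgroup Cfsg Cfsg.Agent.H860.JM Cfsg.Agent.J4.Beta
open Cfsg.Agent.H763.JM.L32Words

/-- the group `Spor.J4` -/
local notation "𝒢" => Cfsg.Spor.J4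

/-- the products of generators -/
local notation "βt" => Cfsg.Agent.J4.Beta.beta

/-! ### conjugation by powers of `f` -/

theorem cf_mul (k : ℕ) (x y : 𝒢) : cf k (x * y) = cf k x * cf k y := by
  rw [cf, cf, cf]; group

theorem cf_one (k : ℕ) : cf k 1 = 1 := by
  rw [cf]; group

theorem cf_cf (j k : ℕ) (x : 𝒢) : cf j (cf k x) = cf (j + k) x := by
  rw [cf, cf, cf, pow_add]; group

theorem cf_sq {x : 𝒢} (hx : x * x = 1) (k : ℕ) : cf k x * cf k x = 1 := by
  rw [← cf_mul, hx, cf_one]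

/-- the generators -/
noncomputable def lg (x : 𝒢) : List 𝒢 := [cf 0 x, cf 1 x, cf 2 x, cf 3 x, cf 4 x]

theorem mem_lg {x a : 𝒢} : a ∈ lg x ↔ ∃ k < 5, a = cf k x := by
  unfold lg
  constructor
  · intro h
    simp only [List.mem_cons, List.not_mem_nil, or_false] at h
    rcases h with h | h | h | h | h
    · exact ⟨0, by norm_num, h⟩
    · exact ⟨1, by norm_num, h⟩
    · exact ⟨2, by norm_num, h⟩
    · exact ⟨3, by norm_num, h⟩
    · exact ⟨4, by norm_num, h⟩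
  · rintro ⟨k, hk, rfl⟩
    interval_cases k <;> simp

theorem lg_sq {x : 𝒢} (hx : x * x = 1) : ∀ q ∈ lg x, q * q = 1 := by
  intro q hq
  obtain ⟨k, -, rfl⟩ := mem_lg.1 hq
  exact cf_sq hx k

theorem cf_comm_aux {x y : 𝒢} (h : ∀ k < 5, x * cf k y = cf k y * x) {i j : ℕ} (hij : i ≤ j) (hj : j < 5) :
    cf i x * cf j y = cf j y * cf i x := by
  have h1 := congrArg (cf i) (h (j - i) (by omega))
  rw [cf_mul, cf_mul, cf_cf, show i + (j - i) = j by omega] at h1
  exact h1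

theorem lg_comm {x : 𝒢} (h : ∀ k < 5, x * cf k x = cf k x * x) : ∀ a ∈ lg x, ∀ b ∈ lg x, a * b = b * a := by
  intro a ha b hb
  obtain ⟨i, hi, rfl⟩ := mem_lg.1 ha
  obtain ⟨j, hj, rfl⟩ := mem_lg.1 hb
  rcases le_total i j with hij | hij
  · exact cf_comm_aux h hij hj
  · exact (cf_comm_aux h hij hi).symm

/-- `f` normalizes a subgroup -/
theorem f_norm {A : Subgroup 𝒢} (h : ∀ a ∈ A, f * a * f⁻¹ ∈ A) : f ∈ normalizer (A : Set 𝒢) := by
  have := finite_J
  rw [← cj_eq_iff]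
  apply Subgroup.eq_of_le_of_card_ge
  · intro x hx
    rw [mem_cj] at hx
    have h1 := h _ hx
    have h2 : f * (f⁻¹ * x * f) * f⁻¹ = x := by group
    rwa [h2] at h1
  · rw [card_cj]

theorem f_norm_closure {l : List 𝒢} (h : ∀ a ∈ l, f * a * f⁻¹ ∈ closure {q | q ∈ l}) :
    f ∈ normalizer ((closure {q | q ∈ l} : Subgroup 𝒢) : Set 𝒢) := by
  apply f_norm
  intro a ha
  have h1 : closure {q | q ∈ l} ≤ (closure {q | q ∈ l}).comap (MulAut.conj f).toMonoidHom := by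
    rw [closure_le]
    intro q hq
    exact h q hq
  exact h1 ha

/-- the group of order 31 -/
noncomputable def P0 : Subgroup 𝒢 := zpowers f

theorem card_P0 : Nat.card P0 = 31 := by
  rw [P0, Nat.card_zpowers, order_f]

theorem P0_le {A : Subgroup 𝒢} (h : f ∈ normalizer (A : Set 𝒢)) : P0 ≤ normalizer (A : Set 𝒢) := by
  rw [P0, zpowers_le]; exact h

/-- the subgroup generated by the conjugates of `x` -/
noncomputable def Ax (x : 𝒢) : Subgroup 𝒢 := closure {q | q ∈ lg x}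

theorem cf_mem_Ax {x : 𝒢} {k : ℕ} (hk : k < 5) : cf k x ∈ Ax x := subset_closure (mem_lg.2 ⟨k, hk, rfl⟩)

theorem Ax_norm {x : 𝒢} (h5 : cf 5 x ∈ Ax x) : f ∈ normalizer (Ax x : Set 𝒢) := by
  apply f_norm_closure
  intro a ha
  obtain ⟨k, hk, rfl⟩ := mem_lg.1 ha
  rw [← cf_succ]
  rcases Nat.lt_or_ge k 4 with h | h
  · exact cf_mem_Ax (by omega)
  · have : k = 4 := by omega
    subst this
    exact h5

theorem Ax_cf {x : 𝒢} (h5 : cf 5 x ∈ Ax x) {y : 𝒢} (hy : y ∈ Ax x) (k : ℕ) : cf k y ∈ Ax x := by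
  have h1 := pow_mem (Ax_norm h5) k
  exact (mem_normalizer_iff.1 h1 y).1 hy

theorem g5_mem : cf 5 i0 ∈ Ax i0 := by
  have h := i0_rel
  have h1 : cf 5 i0 = (i0 * cf 2 i0 * cf 3 i0 * cf 4 i0)⁻¹ := eq_inv_of_mul_eq_one_right h
  rw [h1]
  have h0 : i0 ∈ Ax i0 := by
    have := cf_mem_Ax (x := i0) (k := 0) (by norm_num)
    rwa [cf_zero] at this
  exact inv_mem (mul_mem (mul_mem (mul_mem h0 (cf_mem_Ax (by norm_num))) (cf_mem_Ax (by norm_num)))
    (cf_mem_Ax (by norm_num)))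

theorem b5_mem : cf 5 b0 ∈ Ax b0 := by
  have h := b0_rel
  have h1 : cf 5 b0 = (b0 * cf 2 b0)⁻¹ := eq_inv_of_mul_eq_one_right h
  rw [h1]
  have h0 : b0 ∈ Ax b0 := by
    have := cf_mem_Ax (x := b0) (k := 0) (by norm_num)
    rwa [cf_zero] at this
  exact inv_mem (mul_mem h0 (cf_mem_Ax (by norm_num)))

/-- the good and the bad subgroup -/
noncomputable def Ag : Subgroup 𝒢 := Ax i0
noncomputable def Ab : Subgroup 𝒢 := Ax b0

theorem b0_comm_Ag {y : 𝒢} (hy : y ∈ Ag) : b0 * y = y * b0 := by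
  have h1 : Ag ≤ centralizer {b0} := by
    rw [Ag, Ax, closure_le]
    intro q hq
    obtain ⟨k, hk, rfl⟩ := mem_lg.1 hq
    rw [SetLike.mem_coe, mem_centralizer_singleton_iff]
    exact (b0_i_comm k hk).symm
  exact (mem_centralizer_singleton_iff.1 (h1 hy)).symm

theorem lb_lg_comm : ∀ a ∈ lg b0, ∀ b ∈ lg i0, a * b = b * a := by
  intro a ha b hb
  obtain ⟨i, hi, rfl⟩ := mem_lg.1 ha
  obtain ⟨j, hj, rfl⟩ := mem_lg.1 hb
  have h1 : cf (31 - i + j) i0 ∈ Ag := by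
    rw [← cf_cf]
    exact Ax_cf g5_mem (cf_mem_Ax hj) _
  have h2 := congrArg (cf i) (b0_comm_Ag h1)
  rw [cf_mul, cf_mul, cf_cf] at h2
  have h3 : cf (i + (31 - i + j)) i0 = cf j i0 := by
    rw [show i + (31 - i + j) = 31 + j by omega, cf, cf, pow_add, f_pow, one_mul]
  rw [h3] at h2
  exact h2

/-- the ten generators of `X₀` -/
noncomputable def LL10 : List 𝒢 := lg b0 ++ lg i0

theorem LL_sq : ∀ q ∈ LL10, q * q = 1 := by
  intro q hq
  rcases List.mem_append.1 hq with h | h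
  · exact lg_sq b0_sq q h
  · exact lg_sq i0_sq q h

theorem LL_comm : ∀ a ∈ LL10, ∀ b ∈ LL10, a * b = b * a := by
  intro a ha b hb
  rcases List.mem_append.1 ha with h | h <;> rcases List.mem_append.1 hb with h' | h'
  · exact lg_comm b0_comm a h b h'
  · exact lb_lg_comm a h b h'
  · exact (lb_lg_comm b h' a h).symm
  · exact lg_comm i0_comm a h b h'

/-- the group `X₀` -/
noncomputable def X0 : Subgroup 𝒢 := closure {q | q ∈ LL10}

theorem Ab_le : Ab ≤ X0 := by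
  rw [Ab, Ax, X0]
  exact closure_mono fun q hq => List.mem_append.2 (Or.inl hq)

theorem Ag_le : Ag ≤ X0 := by
  rw [Ag, Ax, X0]
  exact closure_mono fun q hq => List.mem_append.2 (Or.inr hq)

theorem X0_norm : f ∈ normalizer (X0 : Set 𝒢) := by
  apply f_norm_closure
  intro a ha
  rcases List.mem_append.1 ha with h | h
  · apply Ab_le
    exact (mem_normalizer_iff.1 (Ax_norm b5_mem) a).1 (subset_closure h)
  · apply Ag_le
    exact (mem_normalizer_iff.1 (Ax_norm g5_mem) a).1 (subset_closure h)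

/-! ### orders -/

theorem card_le_of {l : List 𝒢} (hsq : ∀ q ∈ l, q * q = 1) (hcomm : ∀ a ∈ l, ∀ b ∈ l, a * b = b * a) :
    Nat.card (closure {q | q ∈ l}) ≤ 2 ^ l.length := by
  have hm : ∀ v : Fin (2 ^ l.length), βt l v ∈ closure {q | q ∈ l} := fun v =>
    beta_mem _ l (fun a ha => subset_closure ha) v
  have hs : Function.Surjective (fun v : Fin (2 ^ l.length) => (⟨βt l v, hm v⟩ : closure {q | q ∈ l})) := by
    rintro ⟨y, hy⟩
    obtain ⟨v, hv, rfl⟩ := exists_beta hsq hcomm hy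
    exact ⟨⟨v, hv⟩, rfl⟩
  have h1 := Nat.card_le_card_of_surjective _ hs
  rwa [Nat.card_fin] at h1

theorem isPGroup_of {l : List 𝒢} (hsq : ∀ q ∈ l, q * q = 1) (hcomm : ∀ a ∈ l, ∀ b ∈ l, a * b = b * a) :
    IsPGroup 2 (closure {q | q ∈ l} : Subgroup 𝒢) := by
  rintro ⟨y, hy⟩
  obtain ⟨v, -, rfl⟩ := exists_beta hsq hcomm hy
  exact ⟨1, Subtype.ext (by rw [pow_one, pow_two]; exact beta_sq l hsq hcomm v)⟩

/-- a nontrivial subgroup of order at most 32 normalized by `f` -/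
theorem card_32 {D : Subgroup 𝒢} (hD : IsPGroup 2 D) (hn : f ∈ normalizer (D : Set 𝒢)) (h1 : D ≠ ⊥)
    (hle : Nat.card D ≤ 32) : Nat.card D = 32 := by
  have := finite_J
  have h2 := card_mod31 card_P0 hD (P0_le hn)
  have h3 : Nat.card D ≠ 1 := fun h => h1 (Subgroup.card_eq_one.1 h)
  omega

theorem Ax_ne {x : 𝒢} (hx : x ≠ 1) : Ax x ≠ ⊥ := by
  intro h
  have h1 := cf_mem_Ax (x := x) (k := 0) (by norm_num)
  rw [h, cf_zero, mem_bot] at h1
  exact hx h1

theorem Ag_2 : IsPGroup 2 Ag := isPGroup_of (lg_sq i0_sq) (lg_comm i0_comm)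
theorem Ab_2 : IsPGroup 2 Ab := isPGroup_of (lg_sq b0_sq) (lg_comm b0_comm)
theorem X0_2 : IsPGroup 2 X0 := isPGroup_of LL_sq LL_comm

theorem card_Ag : Nat.card Ag = 32 :=
  card_32 Ag_2 (Ax_norm g5_mem) (Ax_ne i0_ne) (card_le_of (lg_sq i0_sq) (lg_comm i0_comm))

theorem card_Ab : Nat.card Ab = 32 :=
  card_32 Ab_2 (Ax_norm b5_mem) (Ax_ne b0_ne) (card_le_of (lg_sq b0_sq) (lg_comm b0_comm))

/-- the products of the generators of `A_b` are distinct -/
theorem beta_b_ne {w : ℕ} (hw : w < 32) (h : βt (lg b0) w = 1) : w = 0 := by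
  have hm : ∀ v : Fin 32, βt (lg b0) v ∈ Ab := fun v =>
    beta_mem _ _ (fun a ha => subset_closure ha) v
  have hs : Function.Surjective (fun v : Fin 32 => (⟨βt (lg b0) v, hm v⟩ : Ab)) := by
    rintro ⟨y, hy⟩
    obtain ⟨v, hv, rfl⟩ := exists_beta (lg_sq b0_sq) (lg_comm b0_comm) hy
    exact ⟨⟨v, hv⟩, rfl⟩
  have hb : Function.Bijective (fun v : Fin 32 => (⟨βt (lg b0) v, hm v⟩ : Ab)) := by
    have : Finite Ab := Nat.finite_of_card_ne_zero (by rw [card_Ab]; norm_num)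
    rw [Nat.bijective_iff_surjective_and_card]
    exact ⟨hs, by rw [Nat.card_eq_fintype_card, Fintype.card_fin, card_Ab]⟩
  have h1 := @hb.1 ⟨w, hw⟩ ⟨0, by norm_num⟩ (Subtype.ext (by
    change βt (lg b0) w = βt (lg b0) 0
    rw [h, beta_zero]))
  exact congrArg Fin.val h1

/-! ### the action of `f` on `X₀` in coordinates -/

/-- the matrix of `f` -/
def MF : List ℕ := [2, 4, 8, 16, 5, 64, 128, 256, 512, 928]

/-- the polynomial of `A_g` in `f` -/
def ng (v : ℕ) : ℕ :=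
  let a := lin MF (lin MF v)
  let b := lin MF a
  let c := lin MF b
  let d := lin MF c
  v ^^^ a ^^^ b ^^^ c ^^^ d

theorem ng_spec : ∀ v < 1024, (v % 32 ≠ 0 → ng v ≠ 0 ∧ ng v < 32) ∧ (v % 32 = 0 → ng v = 0) := by
  decide +kernel

theorem beta_LL {v w : ℕ} : βt LL10 (v ^^^ w) = βt LL10 v * βt LL10 w := beta_xor _ LL_sq LL_comm v w

theorem beta_pow_b {k : ℕ} (hk : k < 5) : βt LL10 (2 ^ k) = cf k b0 := by
  interval_cases k <;> simp [LL10, lg, beta_cons, beta_nil]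

theorem beta_pow_g {k : ℕ} (hk : k < 5) : βt LL10 (2 ^ (5 + k)) = cf k i0 := by
  interval_cases k <;> simp [LL10, lg, beta_cons, beta_nil]

theorem cf5b : cf 5 b0 = βt LL10 5 := by
  have h := b0_rel
  have h1 : cf 5 b0 = (b0 * cf 2 b0)⁻¹ := eq_inv_of_mul_eq_one_right h
  have h2 : (b0 * cf 2 b0) * (b0 * cf 2 b0) = 1 := by
    have h3 := b0_comm 2 (by norm_num)
    calc b0 * cf 2 b0 * (b0 * cf 2 b0) = b0 * (cf 2 b0 * b0) * cf 2 b0 := by group
      _ = b0 * (b0 * cf 2 b0) * cf 2 b0 := by rw [h3]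
      _ = (b0 * b0) * (cf 2 b0 * cf 2 b0) := by group
      _ = 1 := by rw [b0_sq, cf_sq b0_sq, one_mul]
  rw [h1, inv_eq_of_mul_eq_one_left h2]
  have h4 : βt LL10 (2 ^ 0 ^^^ 2 ^ 2) = cf 0 b0 * cf 2 b0 := by
    rw [beta_LL, beta_pow_b (by norm_num), beta_pow_b (by norm_num)]
  rw [cf_zero] at h4
  exact h4.symm

theorem cf5g : cf 5 i0 = βt LL10 928 := by
  have h := i0_rel
  have h1 : cf 5 i0 = (i0 * cf 2 i0 * cf 3 i0 * cf 4 i0)⁻¹ := eq_inv_of_mul_eq_one_right h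
  have h4 : βt LL10 (2 ^ (5 + 0) ^^^ 2 ^ (5 + 2) ^^^ 2 ^ (5 + 3) ^^^ 2 ^ (5 + 4)) =
      i0 * cf 2 i0 * cf 3 i0 * cf 4 i0 := by
    rw [beta_LL, beta_LL, beta_LL, beta_pow_g (by norm_num), beta_pow_g (by norm_num), beta_pow_g (by norm_num),
      beta_pow_g (by norm_num), cf_zero]
  rw [h1, ← h4]
  exact inv_eq_of_mul_eq_one_left (beta_sq _ LL_sq LL_comm _)

theorem forall_MF : List.Forall₂ (fun a c => f * a * f⁻¹ = βt LL10 c) LL10 MF := by
  have hb : ∀ k < 4, f * cf k b0 * f⁻¹ = βt LL10 (2 ^ (k + 1)) := by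
    intro k hk
    rw [← cf_succ, beta_pow_b (by omega)]
  have hg : ∀ k < 4, f * cf k i0 * f⁻¹ = βt LL10 (2 ^ (5 + (k + 1))) := by
    intro k hk
    rw [← cf_succ, beta_pow_g (by omega)]
  refine List.Forall₂.cons (hb 0 (by norm_num)) (List.Forall₂.cons (hb 1 (by norm_num))
    (List.Forall₂.cons (hb 2 (by norm_num)) (List.Forall₂.cons (hb 3 (by norm_num))
    (List.Forall₂.cons ?_ (List.Forall₂.cons (hg 0 (by norm_num)) (List.Forall₂.cons (hg 1 (by norm_num))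
    (List.Forall₂.cons (hg 2 (by norm_num)) (List.Forall₂.cons (hg 3 (by norm_num))
    (List.Forall₂.cons ?_ List.Forall₂.nil)))))))))
  · rw [← cf_succ]; exact cf5b
  · rw [← cf_succ]; exact cf5g

theorem conj_f (v : ℕ) : f * βt LL10 v * f⁻¹ = βt LL10 (lin MF v) :=
  conj_beta LL10 LL_sq LL_comm f forall_MF v

theorem cf_beta (k v : ℕ) : cf k (βt LL10 v) = βt LL10 ((lin MF)^[k] v) := by
  induction k with
  | zero => rw [cf_zero]; rfl
  | succ k ih => rw [cf_succ, ih, conj_f, Function.iterate_succ_apply']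

/-- the polynomial of `A_g` in `f` -/
noncomputable def NG (u : 𝒢) : 𝒢 := u * cf 2 u * cf 3 u * cf 4 u * cf 5 u

theorem NG_beta (v : ℕ) : NG (βt LL10 v) = βt LL10 (ng v) := by
  rw [NG, cf_beta, cf_beta, cf_beta, cf_beta]
  have h : ng v = v ^^^ (lin MF)^[2] v ^^^ (lin MF)^[3] v ^^^ (lin MF)^[4] v ^^^ (lin MF)^[5] v := rfl
  rw [h, beta_LL, beta_LL, beta_LL, beta_LL]

theorem NG_mem {U : Subgroup 𝒢} (hn : f ∈ normalizer (U : Set 𝒢)) {u : 𝒢} (hu : u ∈ U) : NG u ∈ U := by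
  have h : ∀ k, cf k u ∈ U := fun k => (mem_normalizer_iff.1 (pow_mem hn k) u).1 hu
  exact mul_mem (mul_mem (mul_mem (mul_mem hu (h 2)) (h 3)) (h 4)) (h 5)

theorem beta_append {G : Type*} [Group G] (l m : List G) (v : ℕ) :
    βt (l ++ m) v = βt l (v % 2 ^ l.length) * βt m (v / 2 ^ l.length) := by
  induction l generalizing v with
  | nil => simp [beta_nil]
  | cons a l ih =>
    rw [List.cons_append, beta_cons, ih, beta_cons, List.length_cons, pow_succ, mul_assoc]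
    have h1 : v % (2 ^ l.length * 2) % 2 = v % 2 := by
      rw [Nat.mod_mod_of_dvd _ (Dvd.intro_left _ rfl)]
    have h2 : v % (2 ^ l.length * 2) / 2 = v / 2 % 2 ^ l.length := by
      rw [mul_comm (2 ^ l.length) 2, Nat.mod_mul_right_div_self]
    have h3 : v / (2 ^ l.length * 2) = v / 2 / 2 ^ l.length := by
      rw [mul_comm (2 ^ l.length) 2, Nat.div_div_eq_div_mul]
    rw [h1, h2, h3]

theorem beta_split (v : ℕ) : βt LL10 v = βt (lg b0) (v % 32) * βt (lg i0) (v / 32) :=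
  beta_append _ _ v

theorem beta_low {w : ℕ} (hw : w < 32) : βt LL10 w = βt (lg b0) w := by
  rw [beta_split, Nat.mod_eq_of_lt hw, Nat.div_eq_of_lt hw, beta_zero, mul_one]

/-- **the subgroups of order 32 of `X₀` normalized by `f`** -/
theorem eq_Ag_or_Ab {U : Subgroup 𝒢} (hU : U ≤ X0) (hc : Nat.card U = 32) (hn : f ∈ normalizer (U : Set 𝒢)) :
    U = Ag ∨ U = Ab := by
  have := finite_J
  have hex : ∀ u ∈ U, ∃ v < 1024, u = βt LL10 v := fun u hu => exists_beta LL_sq LL_comm (hU hu)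
  by_cases h : ∀ u ∈ U, ∃ v < 1024, v % 32 = 0 ∧ u = βt LL10 v
  · left
    apply Subgroup.eq_of_le_of_card_ge
    · intro u hu
      obtain ⟨v, -, hv, rfl⟩ := h u hu
      rw [beta_split, hv, beta_zero, one_mul]
      exact beta_mem _ _ (fun a ha => subset_closure ha) _
    · rw [hc, card_Ag]
  · right
    push Not at h
    obtain ⟨u, hu, h⟩ := h
    obtain ⟨v, hv, huv⟩ := hex u hu
    have h1 : v % 32 ≠ 0 := fun h0 => h v hv h0 huv
    obtain ⟨h2, h3⟩ := (ng_spec v hv).1 h1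
    have h4 : NG u ∈ U := NG_mem hn hu
    rw [huv, NG_beta, beta_low h3] at h4
    have h5 : βt (lg b0) (ng v) ∈ Ab := beta_mem _ _ (fun a ha => subset_closure ha) _
    have h6 : U ⊓ Ab ≠ ⊥ := by
      intro h0
      have h7 : βt (lg b0) (ng v) ∈ U ⊓ Ab := ⟨h4, h5⟩
      rw [h0, mem_bot] at h7
      exact h2 (beta_b_ne h3 h7)
    have hn2 : f ∈ normalizer ((U ⊓ Ab : Subgroup 𝒢) : Set 𝒢) := by
      apply f_norm
      intro a ha
      exact ⟨(mem_normalizer_iff.1 hn a).1 ha.1, (mem_normalizer_iff.1 (Ax_norm b5_mem) a).1 ha.2⟩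
    have h8 := card_32 (Ab_2.to_le inf_le_right) hn2 h6
      ((Subgroup.card_le_of_le inf_le_right).trans_eq card_Ab)
    have h9 : U ⊓ Ab = U := Subgroup.eq_of_le_of_card_ge inf_le_left (by rw [h8, hc])
    have h10 : U ⊓ Ab = Ab := Subgroup.eq_of_le_of_card_ge inf_le_right (by rw [h8, card_Ab])
    exact h9.symm.trans h10

theorem card_X0 : Nat.card X0 = 2 ^ 10 := by
  have := finite_J
  obtain ⟨n, hn⟩ := IsPGroup.iff_card.1 X0_2
  have h1 := card_mod31 card_P0 X0_2 (P0_le X0_norm)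
  have h2 : Nat.card X0 ≤ 2 ^ 10 := card_le_of LL_sq LL_comm
  have h3 : Nat.card Ab ≤ Nat.card X0 := Subgroup.card_le_of_le Ab_le
  rw [card_Ab] at h3
  rw [hn] at h1 h2 h3 ⊢
  have h4 : n ≤ 10 := (Nat.pow_le_pow_iff_right (by norm_num)).1 h2
  have h5 : 5 ≤ n := by
    have : 2 ^ 5 ≤ 2 ^ n := h3
    exact (Nat.pow_le_pow_iff_right (by norm_num)).1 this
  have h6 : n = 5 ∨ n = 10 := by
    interval_cases n <;> simp_all
  rcases h6 with rfl | rfl
  · exfalso
    have e1 : Ab = X0 := Subgroup.eq_of_le_of_card_ge Ab_le (by rw [hn, card_Ab]; norm_num)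
    have e2 : Ag = X0 := Subgroup.eq_of_le_of_card_ge Ag_le (by rw [hn, card_Ag]; norm_num)
    have h7 : b0 ∈ Ag := by
      rw [e2, ← e1]
      have := cf_mem_Ax (x := b0) (k := 0) (by norm_num)
      rwa [cf_zero] at this
    obtain ⟨w, hw, h8⟩ := exists_beta (lg_sq i0_sq) (lg_comm i0_comm) h7
    have hw' : w < 32 := hw
    have h9 : b0 = βt LL10 (32 * w) := by
      rw [beta_split, Nat.mul_mod_right, beta_zero, one_mul, Nat.mul_div_cancel_left _ (by norm_num)]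
      exact h8
    have h10 : NG b0 = 1 := by
      rw [h9, NG_beta, (ng_spec (32 * w) (by omega)).2 (Nat.mul_mod_right _ _), beta_zero]
    have h11 : b0 = βt LL10 1 := by
      have := beta_pow_b (k := 0) (by norm_num)
      rw [cf_zero] at this
      exact this.symm
    obtain ⟨h12, h13⟩ := (ng_spec 1 (by norm_num)).1 (by norm_num)
    apply h12
    apply beta_b_ne h13
    rw [← beta_low h13, ← NG_beta, ← h11]
    exact h10
  · rfl

/-- **`X₀` is self-centralizing** -/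
theorem xc_X0 (hF : Facts geo) : geo.Xc X0 := by
  have := finite_J
  obtain ⟨X, hX, -, hle⟩ := exists_X hF card_P0 X0_2 (fun h => by
    have h1 := card_X0
    rw [h, Subgroup.card_bot] at h1
    norm_num at h1) (P0_le X0_norm)
  have h1 : X0 = X := Subgroup.eq_of_le_of_card_ge hle (by rw [card_X0, hX.2.1])
  rw [h1]
  exact hX

end Cfsg.Agent.H763.JM
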